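import Mathlib.Algebra.Lie.UniversalEnveloping
import Mathlib.LinearAlgebra.Finsupp.Supported
import Mathlib.LinearAlgebra.Basis.Basic
import Mathlib.Data.Multiset.Sort
import Mathlib.Data.Finset.Max
import Mathlib.Tactic.LinearCombination
import Mathlib.Tactic.Abel

/-! The action of a Lie algebra on ordered monomials (the heart of Poincaré–Birkhoff–Witt). -/

noncomputable section

namespace PBWLib

universe u v w

variable {k : Type u} [CommRing k] {L : Type v} [LieRing L] [LieAlgebra k L]
  {ι : Type w} [LinearOrder ι] (b : Module.Basis ι k L)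

/-- The space of formal ordered monomials. -/
abbrev Poly (k : Type u) [CommRing k] (ι : Type w) : Type max u w := Multiset ι →₀ k

/-- A monomial. -/
abbrev mon (M : Multiset ι) : Poly k ι := Finsupp.single M 1

/-- Linear extension in the Lie algebra of a family of operators indexed by the basis. -/
def extL {V : Type*} [AddCommGroup V] [Module k V] (f : ι → V) : L →ₗ[k] V := b.constr k f

/-- The smallest entry of a non-empty multiset. -/
def low (M : Multiset ι) (h : M.toFinset.Nonempty) : ι := M.toFinset.min' h

lemma low_mem (M : Multiset ι) (h) : low M h ∈ M := Multiset.mem_toFinset.1 (Finset.min'_mem _ h)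

lemma low_le (M : Multiset ι) (h) {x : ι} (hx : x ∈ M) : low M h ≤ x :=
  Finset.min'_le _ _ (Multiset.mem_toFinset.2 hx)

lemma low_cons (l : ι) (T : Multiset ι) (hl : ∀ x ∈ T, l ≤ x) (h) : low (l ::ₘ T) h = l :=
  le_antisymm (low_le _ h (Multiset.mem_cons_self _ _)) <| by
    rcases Multiset.mem_cons.1 (low_mem _ h) with e | e
    · exact e.ge
    · exact hl _ e

/-- The approximations to the action: `step n i M` is right for `card M ≤ n`. -/
def step : ℕ → ι → Multiset ι → Poly k ι
  | 0, i, M => mon (i ::ₘ M)
  | n + 1, i, M =>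
    if Multiset.card M ≤ n then step n i M
    else if h : M.toFinset.Nonempty then
      if low M h < i then
        let j := low M h
        let T := M.erase j
        mon (i ::ₘ M) + Finsupp.linearCombination k (step n j) (step n i T - mon (i ::ₘ T)) +
          extL b (fun l => step n l T) ⁅b i, b j⁆
      else mon (i ::ₘ M)
    else mon (i ::ₘ M)

/-- The action of a basis element on a monomial. -/
def op (i : ι) (M : Multiset ι) : Poly k ι := step b (Multiset.card M) i M

lemma step_eq {n : ℕ} {M : Multiset ι} (h : Multiset.card M ≤ n) (i : ι) :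
    step b n i M = op b i M := by
  induction n with
  | zero => rw [op, Nat.le_zero.1 h]
  | succ n ih =>
    by_cases h' : Multiset.card M ≤ n
    · rw [step, if_pos h', ih h']
    · rw [op, show Multiset.card M = n + 1 by omega]

/-- The action of a basis element. -/
def act (i : ι) : Poly k ι →ₗ[k] Poly k ι := Finsupp.linearCombination k (op b i)

@[simp] lemma act_mon (i : ι) (M : Multiset ι) : act b i (mon M) = op b i M := by
  simp [act]

/-- The action of the Lie algebra. -/
def rho : L →ₗ[k] Module.End k (Poly k ι) := extL b (act b)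

@[simp] lemma rho_basis (i : ι) : rho b (b i) = act b i := by simp [rho, extL]

lemma extL_op (x : L) (T : Multiset ι) :
    extL b (fun l => op b l T) x = rho b x (mon T) := by
  have : extL b (fun l => op b l T) = (LinearMap.applyₗ (mon T)) ∘ₗ rho b :=
    b.ext fun l => by simp [extL]
  exact LinearMap.congr_fun this x

/-- Monomials of length at most `n`. -/
def low' (k : Type u) [CommRing k] (ι : Type w) (n : ℕ) : Submodule k (Poly k ι) :=
  Finsupp.supported k k {M | Multiset.card M ≤ n}

lemma mon_mem_low' {n : ℕ} {M : Multiset ι} (h : Multiset.card M ≤ n) : mon M ∈ low' k ι n :=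
  Finsupp.single_mem_supported k 1 h

lemma low'_mono {m n : ℕ} (h : m ≤ n) : low' k ι m ≤ low' k ι n :=
  Finsupp.supported_mono fun _ hM => le_trans hM h

lemma linearCombination_step {n : ℕ} {v : Poly k ι} (hv : v ∈ low' k ι n) (j : ι) :
    Finsupp.linearCombination k (step b n j) v = act b j v := by
  rw [act, Finsupp.linearCombination_apply, Finsupp.linearCombination_apply]
  refine Finsupp.sum_congr fun M hM => ?_
  rw [step_eq b (hv (Finset.mem_coe.2 hM))]

lemma sub_mem (n : ℕ) : ∀ (i : ι) (M : Multiset ι), Multiset.card M ≤ n →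
    op b i M - mon (i ::ₘ M) ∈ low' k ι (Multiset.card M) := by
  induction n with
  | zero =>
    intro i M h
    simp [op, Nat.le_zero.1 h, step]
  | succ n ih =>
    intro i M h
    rcases Nat.lt_or_ge (Multiset.card M) (n + 1) with h' | h'
    · exact ih i M (by omega)
    have hM : Multiset.card M = n + 1 := le_antisymm h h'
    have img : ∀ (j : ι) (v : Poly k ι), v ∈ low' k ι n →
        Finsupp.linearCombination k (step b n j) v ∈ low' k ι (n + 1) := by
      intro j v hv
      rw [Finsupp.linearCombination_apply]
      refine Submodule.sum_mem _ fun N hN => Submodule.smul_mem _ _ ?_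
      have hN' : Multiset.card N ≤ n := hv (Finset.mem_coe.2 hN)
      rw [step_eq b hN', ← sub_add_cancel (op b j N) (mon (j ::ₘ N))]
      exact Submodule.add_mem _ (low'_mono (by omega) (ih j N hN'))
        (mon_mem_low' (by simp; omega))
    rw [op, hM, step, if_neg (by omega)]
    split_ifs with hne hlt
    · have hT : Multiset.card (M.erase (low M hne)) = n := by
        rw [Multiset.card_erase_of_mem (low_mem M hne), hM]; rfl
      simp only [add_assoc, add_sub_cancel_left]
      refine Submodule.add_mem _ (img _ _ ?_) ?_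
      · rw [step_eq b hT.le]
        simpa [hT] using ih i _ hT.le
      · rw [extL, Module.Basis.constr_apply]
        refine Submodule.sum_mem _ fun l _ => Submodule.smul_mem _ _ ?_
        rw [step_eq b hT.le, ← sub_add_cancel (op b l _) (mon (l ::ₘ M.erase (low M hne)))]
        exact Submodule.add_mem _ (low'_mono (by omega) (ih l _ hT.le))
          (mon_mem_low' (by simp [hT]))
    all_goals simp

lemma op_of_le {i : ι} {M : Multiset ι} (h : ∀ x ∈ M, i ≤ x) : op b i M = mon (i ::ₘ M) := by
  rw [op]
  cases hn : Multiset.card M with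
  | zero => rfl
  | succ n =>
    rw [step, if_neg (by omega)]
    split_ifs with hne hlt
    · exact absurd (h _ (low_mem M hne)) (not_le.2 hlt)
    all_goals rfl

lemma op_cons {i l : ι} {T : Multiset ι} (hl : ∀ x ∈ T, l ≤ x) (hli : l < i) :
    op b i (l ::ₘ T) = act b l (op b i T) + rho b ⁅b i, b l⁆ (mon T) := by
  have hne : (l ::ₘ T).toFinset.Nonempty := ⟨l, by simp⟩
  rw [op, Multiset.card_cons, step, if_neg (by simp), dif_pos hne, low_cons l T hl hne, if_pos hli]
  simp only [Multiset.erase_cons_head, step_eq b le_rfl]
  have h1 : op b i T - mon (i ::ₘ T) ∈ low' k ι (Multiset.card T) := sub_mem b _ i T le_rfl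
  rw [linearCombination_step b h1, map_sub, act_mon,
    op_of_le b (M := i ::ₘ T) (i := l) (by simpa using ⟨hli.le, hl⟩), Multiset.cons_swap i l T,
    extL_op]
  abel

/-- Vectors on which `rho` respects all brackets. -/
def good : Submodule k (Poly k ι) where
  carrier := {v | ∀ x y : L, rho b x (rho b y v) - rho b y (rho b x v) = rho b ⁅x, y⁆ v}
  add_mem' := by
    intro v w hv hw x y
    simp only [map_add, ← hv x y, ← hw x y]
    abel
  zero_mem' := by intro x y; simp
  smul_mem' := by
    intro c v hv x y
    simp only [map_smul, ← hv x y, smul_sub]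

lemma good_of_basis (v : Poly k ι)
    (h : ∀ i j : ι, rho b (b i) (rho b (b j) v) - rho b (b j) (rho b (b i) v) =
      rho b ⁅b i, b j⁆ v) : v ∈ good b := by
  let ev : Module.End k (Poly k ι) →ₗ[k] Poly k ι := LinearMap.applyₗ v
  let F : L →ₗ[k] L →ₗ[k] Poly k ι := LinearMap.mk₂ k
    (fun x y => rho b x (rho b y v) - rho b y (rho b x v) - rho b ⁅x, y⁆ v)
    (fun x x' y => by simp [add_lie]; abel)
    (fun c x y => by simp [smul_lie, smul_sub])
    (fun x y y' => by simp [lie_add]; abel)
    (fun c x y => by simp [lie_smul, smul_sub])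
  have hF : F = 0 := b.ext fun i => b.ext fun j => by
    simpa [F, sub_eq_zero] using h i j
  intro x y
  exact sub_eq_zero.1 (LinearMap.congr_fun (LinearMap.congr_fun hF x) y)

lemma mon_mem_good (n : ℕ) : ∀ T : Multiset ι, Multiset.card T ≤ n → mon T ∈ good b := by
  induction n using Nat.strong_induction_on with
  | _ n ih =>
    intro T hT
    have hlt : ∀ v : Poly k ι, ∀ m < n, v ∈ low' k ι m → v ∈ good b := by
      intro v m hm hv
      rw [low', Finsupp.supported_eq_span_single] at hv
      refine Submodule.span_le.2 ?_ hv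
      rintro _ ⟨N, hN, rfl⟩
      exact ih m hm N hN
    -- first the pairs whose smaller member can go in front
    have caseA : ∀ (S : Multiset ι) (i j : ι), j < i → (∀ x ∈ S, j ≤ x) →
        act b i (act b j (mon S)) - act b j (act b i (mon S)) = rho b ⁅b i, b j⁆ (mon S) := by
      intro S i j hji hj
      rw [act_mon, act_mon, op_of_le b hj, act_mon, op_cons b hj hji]
      abel
    refine good_of_basis b _ fun i j => ?_
    simp only [rho_basis]
    wlog hji : j ≤ i generalizing i j
    · have := this j i (le_of_not_ge hji)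
      rw [← neg_sub, this, ← lie_skew (b i) (b j), map_neg, LinearMap.neg_apply]
    rcases eq_or_lt_of_le hji with rfl | hji
    · simp
    by_cases hj : ∀ x ∈ T, j ≤ x
    · exact caseA T i j hji hj
    push Not at hj
    obtain ⟨x, hx, hxj⟩ := hj
    have hne : T.toFinset.Nonempty := ⟨x, Multiset.mem_toFinset.2 hx⟩
    obtain ⟨l, U, rfl, hl, hlj⟩ : ∃ l U, T = l ::ₘ U ∧ (∀ y ∈ U, l ≤ y) ∧ l < j :=
      ⟨low T hne, T.erase (low T hne), (Multiset.cons_erase (low_mem T hne)).symm,
        fun y hy => low_le _ hne (Multiset.mem_of_mem_erase hy),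
        lt_of_le_of_lt (low_le _ hne hx) hxj⟩
    have hli : l < i := hlj.trans hji
    rw [Multiset.card_cons] at hT
    have hU : mon U ∈ good b := ih _ (by omega) U le_rfl
    have eT : mon (l ::ₘ U) = act b l (mon U) := by rw [act_mon, op_of_le b hl]
    -- moving `l` past a product with one more factor
    have pass : ∀ p q : ι, l < p → l ≤ q → act b p (act b l (act b q (mon U))) -
        act b l (act b p (act b q (mon U))) = rho b ⁅b p, b l⁆ (act b q (mon U)) := by
      intro p q hp hq
      have hw : (act b q (mon U) - mon (q ::ₘ U)) ∈ good b :=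
        hlt _ (Multiset.card U) (by omega) (by rw [act_mon]; exact sub_mem b _ q U le_rfl)
      have h1 := hw (b p) (b l)
      have h2 := caseA (q ::ₘ U) p l hp (by simpa using ⟨hq, hl⟩)
      simp only [rho_basis, map_sub] at h1
      rw [← sub_eq_zero] at h1 h2 ⊢
      rw [← add_zero (0 : Poly k ι)]
      nth_rw 1 [← h1]
      rw [← h2]
      abel
    have g1 := hU (b i) (b l)
    have g2 := hU (b j) (b l)
    have g3 := hU (b i) (b j)
    have g4 := hU ⁅b i, b l⁆ (b j)
    have g5 := hU (b i) ⁅b j, b l⁆
    have g6 := hU (b l) ⁅b i, b j⁆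
    simp only [rho_basis] at g1 g2 g3 g4 g5 g6
    rw [eT]
    have e1 := pass i j hli hlj.le
    have e2 := pass j i hlj hli.le
    have ei := congrArg (act b i) g2
    have ej := congrArg (act b j) g1
    have el := congrArg (act b l) g3
    simp only [map_sub] at ei ej el
    have jac : ⁅⁅b i, b l⁆, b j⁆ + ⁅b i, ⁅b j, b l⁆⁆ + ⁅b l, ⁅b i, b j⁆⁆ = 0 := by
      rw [lie_lie, ← lie_skew (b l) (b j), lie_neg, ← lie_skew (b l) ⁅b i, b j⁆]
      abel
    have jac' := congrArg (fun x => rho b x (mon U)) jac
    simp only [map_add, LinearMap.add_apply, map_zero, LinearMap.zero_apply] at jac'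
    rw [← g4, ← g5, ← g6] at jac'
    linear_combination (norm := abel) ei - ej + e1 - e2 + el + jac'

end PBWLib
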