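import Groth.Agent.PBWLib.Action
import Mathlib.Data.List.Sort

/-! Poincaré–Birkhoff–Witt for a Lie algebra free as a module. -/

noncomputable section

namespace PBWLib

universe u v w

variable {k : Type u} [CommRing k] {L : Type v} [LieRing L] [LieAlgebra k L]
  {ι : Type w} [LinearOrder ι] (b : Module.Basis ι k L)

attribute [local instance 100] LieRing.ofAssociativeRing

lemma mem_good (v : Poly k ι) : v ∈ good b := by
  have h : (⊤ : Submodule k (Poly k ι)) ≤ good b := by
    rw [← Finsupp.supported_univ, Finsupp.supported_eq_span_single, Submodule.span_le]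
    rintro _ ⟨N, -, rfl⟩
    exact mon_mem_good b _ N le_rfl
  exact h trivial

/-- The representation on monomials. -/
def rhoLie : L →ₗ⁅k⁆ Module.End k (Poly k ι) :=
  { rho b with
    map_lie' := fun {x y} => LinearMap.ext fun v => by
      rw [LieRing.of_associative_ring_bracket]
      exact (mem_good b v x y).symm }

local notation "𝕌" => UniversalEnvelopingAlgebra k L
local notation "ε" => UniversalEnvelopingAlgebra.ι k

/-- The representation of the enveloping algebra on monomials. -/
def repr' : 𝕌 →ₐ[k] Module.End k (Poly k ι) := UniversalEnvelopingAlgebra.lift k (rhoLie b)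

lemma repr'_ι (x : L) : repr' b (ε x) = rho b x := UniversalEnvelopingAlgebra.lift_ι_apply k (rhoLie b) x

/-- The ordered monomial in the enveloping algebra. -/
def word (M : Multiset ι) : 𝕌 := ((M.sort (· ≤ ·)).map fun i => ε (b i)).prod

/-- The symbol map. -/
def fromPoly : Poly k ι →ₗ[k] 𝕌 := Finsupp.linearCombination k (word b)

@[simp] lemma fromPoly_mon (M : Multiset ι) : fromPoly b (mon M) = word b M := by simp [fromPoly]

lemma word_cons {i : ι} {M : Multiset ι} (h : ∀ x ∈ M, i ≤ x) :
    word b (i ::ₘ M) = ε (b i) * word b M := by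
  simp only [word, Multiset.sort_cons i M (r := (· ≤ ·)) h, List.map_cons, List.prod_cons]

lemma word_zero : word b (0 : Multiset ι) = 1 := by simp [word]

lemma ι_mul_fromPoly_mon (n : ℕ) : ∀ T : Multiset ι, Multiset.card T ≤ n → ∀ x : L,
    ε x * fromPoly b (mon T) = fromPoly b (rho b x (mon T)) := by
  induction n using Nat.strong_induction_on with
  | _ n ih =>
    intro T hT
    -- it is enough to treat basis elements
    suffices h : ∀ i, ε (b i) * fromPoly b (mon T) = fromPoly b (op b i T) by
      have e : LinearMap.mulRight k (fromPoly b (mon T)) ∘ₗ (ε : L →ₗ⁅k⁆ 𝕌).toLinearMap =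
          fromPoly b ∘ₗ LinearMap.applyₗ (mon T) ∘ₗ rho b := b.ext fun i => by simpa using h i
      exact fun x => LinearMap.congr_fun e x
    intro i
    by_cases hi : ∀ x ∈ T, i ≤ x
    · rw [op_of_le b hi, fromPoly_mon, fromPoly_mon, word_cons b hi]
    push Not at hi
    obtain ⟨x, hx, hxi⟩ := hi
    have hne : T.toFinset.Nonempty := ⟨x, Multiset.mem_toFinset.2 hx⟩
    obtain ⟨l, U, rfl, hl, hli⟩ : ∃ l U, T = l ::ₘ U ∧ (∀ y ∈ U, l ≤ y) ∧ l < i :=
      ⟨low T hne, T.erase (low T hne), (Multiset.cons_erase (low_mem T hne)).symm,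
        fun y hy => low_le _ hne (Multiset.mem_of_mem_erase hy),
        lt_of_le_of_lt (low_le _ hne hx) hxi⟩
    rw [Multiset.card_cons] at hT
    have hU := ih _ (by omega) U le_rfl
    have hlow : ∀ v : Poly k ι, v ∈ low' k ι (Multiset.card U) →
        ε (b l) * fromPoly b v = fromPoly b (act b l v) := by
      intro v hv
      rw [low', Finsupp.supported_eq_span_single] at hv
      induction hv using Submodule.span_induction with
      | mem z hz =>
        obtain ⟨N, hN, rfl⟩ := hz
        simpa using ih _ (by omega : Multiset.card U < n) N hN (b l)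
      | zero => simp
      | add y z _ _ hy hz => simp only [map_add, mul_add, hy, hz]
      | smul c z _ hz => simp only [map_smul, mul_smul_comm, hz]
    have hw := hlow _ (sub_mem b _ i U le_rfl)
    rw [map_sub, map_sub, map_sub, mul_sub, act_mon, op_of_le b (M := i ::ₘ U) (i := l)
      (by simpa using ⟨hli.le, hl⟩), fromPoly_mon, fromPoly_mon, word_cons b (M := i ::ₘ U) (i := l)
      (by simpa using ⟨hli.le, hl⟩), sub_left_inj] at hw
    have h1 := hU (b i)
    rw [rho_basis, act_mon] at h1
    rw [fromPoly_mon, word_cons b hl, op_cons b hl hli, map_add, ← hU ⁅b i, b l⁆, ← hw,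
      ← h1, fromPoly_mon, LieHom.map_lie, LieRing.of_associative_ring_bracket]
    rw [sub_mul, mul_assoc, mul_assoc]; abel

lemma ι_mul_fromPoly (x : L) (v : Poly k ι) : ε x * fromPoly b v = fromPoly b (rho b x v) := by
  have h : LinearMap.mulLeft k (ε x) ∘ₗ fromPoly b = fromPoly b ∘ₗ rho b x :=
    Finsupp.lhom_ext' fun M => LinearMap.ext_ring (ι_mul_fromPoly_mon b _ M le_rfl x)
  exact LinearMap.congr_fun h v

lemma mul_fromPoly (a : 𝕌) : ∀ v : Poly k ι, a * fromPoly b v = fromPoly b (repr' b a v) := by
  obtain ⟨t, rfl⟩ : ∃ t, UniversalEnvelopingAlgebra.mkAlgHom k L t = a := Quotient.exists_rep a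
  induction t using TensorAlgebra.induction with
  | algebraMap r => intro v; simp [Algebra.algebraMap_eq_smul_one]
  | ι x =>
    intro v
    rw [show repr' b (UniversalEnvelopingAlgebra.mkAlgHom k L (TensorAlgebra.ι k x)) = rho b x from repr'_ι b x]
    exact ι_mul_fromPoly b x v
  | mul s t hs ht => intro v; rw [map_mul, mul_assoc, ht, hs, map_mul]; rfl
  | add s t hs ht => intro v; rw [map_add, add_mul, hs, ht, map_add (repr' b), LinearMap.add_apply, map_add]

/-- The inverse of the symbol map. -/
def toPoly : 𝕌 →ₗ[k] Poly k ι := LinearMap.applyₗ (mon 0) ∘ₗ (repr' b).toLinearMap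

lemma fromPoly_toPoly (a : 𝕌) : fromPoly b (toPoly b a) = a := by
  simpa [toPoly, word_zero] using (mul_fromPoly b a (mon 0)).symm

lemma toPoly_word (n : ℕ) : ∀ M : Multiset ι, Multiset.card M = n → toPoly b (word b M) = mon M := by
  induction n with
  | zero =>
    intro M hM
    simp [Multiset.card_eq_zero.1 hM, word_zero, toPoly]
  | succ n ih =>
    intro M hM
    have hne : M.toFinset.Nonempty := by
      obtain ⟨a, ha⟩ := Multiset.card_pos_iff_exists_mem.1 (by omega : 0 < Multiset.card M)
      exact ⟨a, Multiset.mem_toFinset.2 ha⟩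
    obtain ⟨l, U, rfl, hl⟩ : ∃ l U, M = l ::ₘ U ∧ ∀ y ∈ U, l ≤ y :=
      ⟨low M hne, M.erase (low M hne), (Multiset.cons_erase (low_mem M hne)).symm,
        fun y hy => low_le _ hne (Multiset.mem_of_mem_erase hy)⟩
    have h := ih U (by simpa using hM)
    simp only [toPoly, LinearMap.comp_apply, LinearMap.applyₗ_apply_apply,
      AlgHom.toLinearMap_apply] at h ⊢
    rw [word_cons b hl, map_mul, Module.End.mul_apply, h, repr'_ι, rho_basis, act_mon, op_of_le b hl]

lemma toPoly_fromPoly (v : Poly k ι) : toPoly b (fromPoly b v) = v := by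
  have h : toPoly b ∘ₗ fromPoly b = LinearMap.id :=
    Finsupp.lhom_ext' fun M => LinearMap.ext_ring (by simpa using toPoly_word b _ M rfl)
  exact LinearMap.congr_fun h v

/-- The enveloping algebra has the ordered monomials as a basis. -/
def pbwBasis : Module.Basis (Multiset ι) k 𝕌 :=
  Module.Basis.ofRepr (LinearEquiv.ofLinearMap (toPoly b) (fromPoly b)
    (LinearMap.ext (toPoly_fromPoly b)) (LinearMap.ext (fromPoly_toPoly b)))

@[simp] lemma pbwBasis_apply (M : Multiset ι) : pbwBasis b M = word b M :=
  (fromPoly_mon b M)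

end PBWLib
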