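import Groth.Agent.ComodLib.Coeff
import Groth.Prelude.Def_SGA3y

/-! The coradical filtration of a connected bialgebra. -/

noncomputable section

open TensorProduct HopfRep WithConv
open scoped ComodLib

namespace PBWLib

universe u

variable {k : Type u} [Field k] {H : Type u} [Ring H] [Bialgebra k H]

local notation "𝔸" => ComodLib.Dual' k H

lemma smul_one_eq (f : 𝔸) : f • (1 : H) = f.ofConv 1 • (1 : H) := by
  rw [ComodLib.smul_eq]
  show ComodLib.slice f.ofConv (CoalgebraStruct.comul (R := k) (1 : H)) = _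
  rw [Bialgebra.comul_one, Algebra.TensorProduct.one_def, ComodLib.slice_tmul]

/-- The line through `1`, as a submodule over the convolution algebra. -/
def lineOne : Submodule 𝔸 H where
  carrier := {h | ∃ c : k, c • (1 : H) = h}
  add_mem' := by rintro _ _ ⟨c, rfl⟩ ⟨d, rfl⟩; exact ⟨c + d, add_smul _ _ _⟩
  zero_mem' := ⟨0, zero_smul _ _⟩
  smul_mem' := by
    rintro f _ ⟨c, rfl⟩
    exact ⟨c * f.ofConv 1, by rw [smul_comm f c (1 : H), smul_one_eq, mul_smul]⟩

lemma isSimpleModule_lineOne [Nontrivial H] : IsSimpleModule 𝔸 (lineOne (k := k) (H := H)) := by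
  refine isSimpleModule_iff_isAtom.2 ⟨?_, fun S hS => ?_⟩
  · rw [Submodule.ne_bot_iff]
    exact ⟨1, ⟨1, one_smul k (1 : H)⟩, one_ne_zero⟩
  · rw [Submodule.eq_bot_iff]
    intro x hx
    by_contra hx0
    apply hS.ne
    refine le_antisymm hS.le ?_
    rintro _ ⟨c, rfl⟩
    obtain ⟨d, rfl⟩ := hS.le hx
    have hd : d ≠ 0 := fun h => hx0 (by rw [h, zero_smul])
    have h1 := S.smul_of_tower_mem (c * d⁻¹) hx
    rwa [smul_smul, mul_assoc, inv_mul_cancel₀ hd, mul_one] at h1

/-- Every simple submodule of a connected bialgebra is the line through `1`. -/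
lemma simple_le_lineOne (hconn : SGA3y.IsConnectedCoalg k H) (N : Submodule 𝔸 H)
    (hN : IsSimpleModule 𝔸 N) : N ≤ lineOne (k := k) (H := H) := by
  classical
  let C : Submodule 𝔸 H := ⨆ g : H →ₗ[k] k, N.map (ComodLib.coeff (A := H) g)
  have hNC : N ≤ C := fun n hn => le_iSup (fun g : H →ₗ[k] k => N.map (ComodLib.coeff (A := H) g))
    CoalgebraStruct.counit ⟨n, hn, ComodLib.coeff_counit n⟩
  have hC : ComodLib.IsSubcoalg (C.restrictScalars k) := by
    refine ComodLib.isSubcoalg_restrictScalars fun g c hc => ?_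
    have h : C.map (ComodLib.coeff (A := H) g) ≤ C := by
      conv_lhs => rw [show C = _ from rfl, Submodule.map_iSup]
      refine iSup_le fun g' => ?_
      rw [← Submodule.map_comp,
        ← ComodLib.exists_coeff_of_hom ((ComodLib.coeff (A := H) g).comp (ComodLib.coeff (A := H) g'))]
      exact le_iSup (fun g : H →ₗ[k] k => N.map (ComodLib.coeff (A := H) g)) _
    exact h ⟨c, hc, rfl⟩
  obtain ⟨n, hn, hn0⟩ := N.exists_mem_ne_zero_of_ne_bot
    (fun h => by have := hN.nontrivial; rw [Submodule.nontrivial_iff_ne_bot] at this; exact this h)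
  have : Nontrivial H := ⟨n, 0, hn0⟩
  have h1 : (1 : H) ∈ C := hconn (C.restrictScalars k) hC
    (fun h => hn0 ((Submodule.eq_bot_iff _).1 h n (hNC hn)))
  have hCiso : C ≤ isotypicComponent 𝔸 H N := by
    refine iSup_le fun g => ?_
    rcases LinearMap.injective_or_eq_zero ((ComodLib.coeff (A := H) g).comp N.subtype) with h | h
    · refine le_sSup ⟨?_⟩
      rw [show N.map (ComodLib.coeff (A := H) g) =
        LinearMap.range ((ComodLib.coeff (A := H) g).comp N.subtype) by
          rw [LinearMap.range_comp, Submodule.range_subtype]]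
      exact (LinearEquiv.ofInjective _ h).symm
    · rw [show N.map (ComodLib.coeff (A := H) g) =
        LinearMap.range ((ComodLib.coeff (A := H) g).comp N.subtype) by
          rw [LinearMap.range_comp, Submodule.range_subtype], h, LinearMap.range_zero]
      exact bot_le
  have := isSimpleModule_lineOne (k := k) (H := H)
  have hle : lineOne (k := k) (H := H) ≤ isotypicComponent 𝔸 H N := by
    rintro _ ⟨c, rfl⟩
    exact Submodule.smul_of_tower_mem _ c (hCiso h1)
  obtain ⟨e⟩ := isIsotypicOfType_submodule_iff.1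
    (IsIsotypicOfType.isotypicComponent 𝔸 H (S := N)) (lineOne (k := k) (H := H)) hle
  intro x hx
  refine ⟨CoalgebraStruct.counit (R := k) x, ?_⟩
  rw [← sub_eq_zero]
  by_contra hne
  obtain ⟨f, hf⟩ := ComodLib.exists_dual_ne (k := k) hne
  apply hf
  have h2 : (toConv f : 𝔸) • x = f 1 • x := by
    obtain ⟨y, hy⟩ := e.surjective ⟨x, hx⟩
    obtain ⟨c, hc⟩ := y.2
    have hy2 : (toConv f : 𝔸) • y = f 1 • y := Subtype.ext <| by
      show (toConv f : 𝔸) • (y : H) = f 1 • (y : H)
      rw [← hc, smul_comm _ c, smul_one_eq, smul_comm (f 1) c]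
    have := congrArg Subtype.val (congrArg e hy2)
    rw [map_smul, ← algebraMap_smul 𝔸 (f 1) y, map_smul, algebraMap_smul, hy] at this
    exact this
  have h3 := congrArg (CoalgebraStruct.counit (R := k)) h2
  rw [ComodLib.counit_smul, map_smul, smul_eq_mul] at h3
  rw [map_sub, map_smul, smul_eq_mul, show f x = _ from h3]
  ring

variable (k H) in
/-- The coradical filtration. -/
def corFilt : ℕ → Submodule k H
  | 0 => Submodule.span k {1}
  | n + 1 =>
    { carrier := {y | ∀ f : 𝔸, f.ofConv 1 = 0 → f • y ∈ corFilt n}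
      add_mem' := fun {a b} ha hb f hf => by rw [smul_add]; exact add_mem (ha f hf) (hb f hf)
      zero_mem' := fun f _ => by rw [smul_zero]; exact zero_mem _
      smul_mem' := fun c a ha f hf => by rw [smul_comm]; exact Submodule.smul_mem _ c (ha f hf) }

lemma corFilt_mono : ∀ {m n : ℕ}, m ≤ n → corFilt k H m ≤ corFilt k H n := by
  have h : ∀ n, corFilt k H n ≤ corFilt k H (n + 1) := by
    intro n
    induction n with
    | zero =>
      rw [corFilt, Submodule.span_singleton_le_iff_mem]
      intro f hf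
      rw [smul_one_eq, hf, zero_smul]
      exact zero_mem _
    | succ n ih => exact fun y hy f hf => ih (hy f hf)
  exact fun {m n} hmn => monotone_nat_of_le_succ h hmn

lemma one_mem_corFilt (n : ℕ) : (1 : H) ∈ corFilt k H n :=
  corFilt_mono (Nat.zero_le n) (Submodule.mem_span_singleton_self 1)

lemma exists_mem_corFilt (hconn : SGA3y.IsConnectedCoalg k H) (x : H) :
    ∃ n, x ∈ corFilt k H n := by
  classical
  suffices h : ∀ d : ℕ, ∀ W : Submodule 𝔸 H, FiniteDimensional k (W.restrictScalars k) →
      Module.finrank k (W.restrictScalars k) ≤ d → ∃ n, W.restrictScalars k ≤ corFilt k H n by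
    obtain ⟨n, hn⟩ := h _ _ (ComodLib.finite_span_singleton H x) le_rfl
    exact ⟨n, hn (Submodule.mem_span_singleton_self x)⟩
  intro d
  induction d with
  | zero =>
    intro W hW hd
    refine ⟨0, ?_⟩
    rw [Submodule.finrank_eq_zero.1 (Nat.le_zero.1 hd)]
    exact bot_le
  | succ d ih =>
    intro W hW hd
    by_cases hWb : W = ⊥
    · subst hWb
      refine ⟨0, ?_⟩
      rw [Submodule.restrictScalars_bot]
      exact bot_le
    -- a maximal proper submodule
    let P : ℕ → Prop := fun m => ∃ V : Submodule 𝔸 H, V < W ∧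
      Module.finrank k (V.restrictScalars k) = m
    have hfd : ∀ V : Submodule 𝔸 H, V ≤ W → FiniteDimensional k (V.restrictScalars k) :=
      fun V hV => Submodule.finiteDimensional_of_le (S₂ := W.restrictScalars k) fun _ h => hV h
    have hbd : ∀ V : Submodule 𝔸 H, V < W →
        Module.finrank k (V.restrictScalars k) < Module.finrank k (W.restrictScalars k) :=
      fun V hV => Submodule.finrank_lt_finrank_of_lt
        ((Submodule.restrictScalarsEmbedding k 𝔸 H).strictMono hV)
    have hP0 : P (Module.finrank k ((⊥ : Submodule 𝔸 H).restrictScalars k)) :=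
      ⟨⊥, bot_lt_iff_ne_bot.2 hWb, rfl⟩
    obtain ⟨V, hV, hVr⟩ := Nat.findGreatest_spec (P := P)
      (n := Module.finrank k (W.restrictScalars k)) (hbd ⊥ (bot_lt_iff_ne_bot.2 hWb)).le hP0
    have hmax : ∀ V' : Submodule 𝔸 H, V < V' → V' ≤ W → V' = W := by
      intro V' h1 h2
      by_contra h3
      have h4 : P (Module.finrank k (V'.restrictScalars k)) := ⟨V', lt_of_le_of_ne h2 h3, rfl⟩
      have h5 := Nat.le_findGreatest (n := Module.finrank k (W.restrictScalars k))
        (hbd V' (lt_of_le_of_ne h2 h3)).le h4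
      have := hfd V' h2
      have h6 : Module.finrank k (V.restrictScalars k) < Module.finrank k (V'.restrictScalars k) :=
        Submodule.finrank_lt_finrank_of_lt
          ((Submodule.restrictScalarsEmbedding k 𝔸 H).strictMono h1)
      omega
    obtain ⟨n, hn⟩ := ih V (hfd V hV.le) (by have := hbd V hV; omega)
    refine ⟨n + 1, fun y hy f hf => hn ?_⟩
    show f • y ∈ V
    by_contra hfy
    obtain ⟨g, hg, hgV⟩ := Submodule.exists_dual_map_eq_bot_of_notMem
      (p := V.restrictScalars k) hfy inferInstance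
    have hgv : ∀ v ∈ V, g v = 0 := fun v hv =>
      (Submodule.eq_bot_iff _).1 hgV (g v) ⟨v, hv, rfl⟩
    have hkill : ∀ v ∈ V, ComodLib.coeff (A := H) g v = 0 := by
      intro v hv
      by_contra hne
      obtain ⟨f', hf'⟩ := ComodLib.exists_dual_ne (k := k) hne
      apply hf'
      rw [ComodLib.coeff_apply, ← ComodLib.apply_slice]
      exact hgv _ (V.smul_mem (toConv f') hv)
    -- the image of `W` is the line through `1`
    have himg : W.map (ComodLib.coeff (A := H) g) ≤ lineOne (k := k) (H := H) := by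
      by_cases hI : W.map (ComodLib.coeff (A := H) g) = ⊥
      · rw [hI]; exact bot_le
      obtain ⟨N, hN, hNs⟩ := ComodLib.exists_simple_le H hI
      refine le_trans ?_ (simple_le_lineOne hconn N hNs)
      rintro _ ⟨w, hw, rfl⟩
      let V' : Submodule 𝔸 H := W ⊓ N.comap (ComodLib.coeff (A := H) g)
      have hVV' : V ≤ V' := fun v hv => ⟨hV.le hv, by
        show ComodLib.coeff (A := H) g v ∈ N
        rw [hkill v hv]; exact zero_mem _⟩
      rcases eq_or_lt_of_le hVV' with h | h
      · exfalso
        obtain ⟨m, hm, hm0⟩ := N.exists_mem_ne_zero_of_ne_bot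
          (fun h => by have := hNs.nontrivial; rw [Submodule.nontrivial_iff_ne_bot] at this; exact this h)
        obtain ⟨z, hz, rfl⟩ := hN hm
        exact hm0 (hkill z (h ▸ ⟨hz, hm⟩))
      · exact ((hmax V' h inf_le_left).symm ▸ hw : w ∈ V').2
    obtain ⟨c, hc⟩ := himg ⟨y, hy, rfl⟩
    apply hg
    rw [ComodLib.smul_eq, ComodLib.apply_slice]
    show f.ofConv (ComodLib.coeff (A := H) g y) = 0
    rw [← hc, map_smul, hf, smul_zero]

/-- The reduced coproduct. -/
def redComul : H →ₗ[k] H ⊗[k] H :=
  CoalgebraStruct.comul (R := k) - (TensorProduct.mk k H H).flip 1 - TensorProduct.mk k H H 1 +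
    (CoalgebraStruct.counit (R := k) (A := H)).smulRight ((1 : H) ⊗ₜ[k] (1 : H))

lemma redComul_apply (y : H) : redComul (k := k) y =
    CoalgebraStruct.comul (R := k) y - y ⊗ₜ[k] (1 : H) - (1 : H) ⊗ₜ[k] y +
      CoalgebraStruct.counit (R := k) y • ((1 : H) ⊗ₜ[k] (1 : H)) := rfl

lemma comm_redComul [Coalgebra.IsCocomm k H] (y : H) :
    TensorProduct.comm k H H (redComul y) = redComul y := by
  have h := LinearMap.congr_fun (Coalgebra.comm_comp_comul k H) y
  simp only [LinearMap.comp_apply, LinearEquiv.coe_coe] at h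
  rw [redComul_apply, map_add, map_sub, map_sub, map_smul, h, TensorProduct.comm_tmul,
    TensorProduct.comm_tmul, TensorProduct.comm_tmul]
  abel

lemma redComul_mem [Coalgebra.IsCocomm k H] {n : ℕ} {y : H} (hy : y ∈ corFilt k H (n + 1)) :
    redComul (k := k) y ∈
      LinearMap.range (TensorProduct.map (corFilt k H n).subtype (corFilt k H n).subtype) := by
  have h1 : ∀ f : H →ₗ[k] k, ComodLib.slice f (redComul y) ∈ corFilt k H n := by
    intro f
    let f₀ : 𝔸 := toConv (f + (-(f 1)) • CoalgebraStruct.counit)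
    have hf₀ : f₀.ofConv 1 = 0 := by simp [f₀, Bialgebra.counit_one]
    have h := hy f₀ hf₀
    have e : ComodLib.slice f (redComul y) = f₀ • y - f₀.ofConv y • (1 : H) := by
      rw [redComul_apply, map_add, map_sub, map_sub, map_smul, ComodLib.slice_tmul,
        ComodLib.slice_tmul, ComodLib.slice_tmul, ComodLib.smul_eq,
        show (HopfRep.Comod.coact (k := k) (A := H) y) = CoalgebraStruct.comul (R := k) y from rfl]
      simp only [f₀, WithConv.ofConv_toConv, ComodLib.slice_add,
        ComodLib.slice_smul, LinearMap.add_apply, LinearMap.smul_apply, smul_eq_mul]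
      have hc : ComodLib.slice (CoalgebraStruct.counit (R := k)) (CoalgebraStruct.comul (R := k) y) = y :=
        ComodLib.slice_counit y
      rw [hc]
      module
    rw [e]
    exact sub_mem h (Submodule.smul_mem _ _ (one_mem_corFilt n))
  rw [ComodLib.mem_range_map_iff, ComodLib.mem_range_rTensor_iff, ComodLib.mem_range_lTensor_iff]
  refine ⟨h1, fun g => ?_⟩
  rw [← comm_redComul]
  have e : ∀ z : H ⊗[k] H, ComodLib.sliceL g (TensorProduct.comm k H H z) = ComodLib.slice g z := by
    intro z
    induction z with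
    | zero => simp
    | tmul a b => simp
    | add a b ha hb => simp [ha, hb]
  rw [e]
  exact h1 g

end PBWLib

end
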