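import Groth.Agent.PBWLib.DivPow
import Groth.Agent.PBWLib.Connected

/-! The structure theorem for connected cocommutative bialgebras in characteristic zero. -/

noncomputable section

open TensorProduct WithConv
open scoped ComodLib

namespace PBWLib

universe u w

attribute [local instance 100] LieRing.ofAssociativeRing

variable {k : Type u} [Field k] [CharZero k] {H : Type u} [Ring H] [Bialgebra k H]

local notation "L₀" => SGA3y.primLie k H
local notation "𝕌" => UniversalEnvelopingAlgebra k (SGA3y.primLie k H)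
variable (k H) in
/-- The canonical map from the enveloping algebra of the primitive elements. -/
abbrev liftΦ : UniversalEnvelopingAlgebra k (SGA3y.primLie k H) →ₐ[k] H :=
  UniversalEnvelopingAlgebra.lift k (SGA3y.primLie k H).incl

local notation "Φ" => liftΦ k H

omit [CharZero k] in
lemma counit_prim (x : L₀) : CoalgebraStruct.counit (R := k) (x : H) = 0 := by
  have hx : CoalgebraStruct.comul (R := k) (x : H) = (x : H) ⊗ₜ[k] (1 : H) + (1 : H) ⊗ₜ[k] (x : H) := x.2
  have h := congrArg (fun z => CoalgebraStruct.counit (R := k) (A := H) (TensorProduct.lid k H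
    ((CoalgebraStruct.counit (R := k) (A := H)).rTensor H z))) hx
  simp only [Coalgebra.rTensor_counit_comul] at h
  simpa using h

omit [CharZero k] in
lemma lift_incl_ι (x : L₀) : Φ (UniversalEnvelopingAlgebra.ι k x) = (x : H) :=
  UniversalEnvelopingAlgebra.lift_ι_apply k (SGA3y.primLie k H).incl x

lemma comul_lift (u : 𝕌) : CoalgebraStruct.comul (R := k) (Φ u) =
    TensorProduct.map (Φ).toLinearMap (Φ).toLinearMap (comulU k L₀ u) := by
  have h : (Bialgebra.comulAlgHom k H).comp (Φ) = (Algebra.TensorProduct.map (Φ) (Φ)).comp (comulU k L₀) := by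
    refine UniversalEnvelopingAlgebra.hom_ext k (LieHom.ext fun x => ?_)
    show Bialgebra.comulAlgHom k H (Φ (UniversalEnvelopingAlgebra.ι k x)) =
      Algebra.TensorProduct.map (Φ) (Φ) (comulU k L₀ (UniversalEnvelopingAlgebra.ι k x))
    rw [comulU_ι, map_add, Algebra.TensorProduct.map_tmul, Algebra.TensorProduct.map_tmul, map_one,
      lift_incl_ι]
    exact x.2
  exact DFunLike.congr_fun h u

lemma counit_lift (u : 𝕌) : CoalgebraStruct.counit (R := k) (Φ u) = counitU k L₀ u := by
  have h : (Bialgebra.counitAlgHom k H).comp (Φ) = counitU k L₀ := by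
    refine UniversalEnvelopingAlgebra.hom_ext k (LieHom.ext fun x => ?_)
    show Bialgebra.counitAlgHom k H (Φ (UniversalEnvelopingAlgebra.ι k x)) =
      counitU k L₀ (UniversalEnvelopingAlgebra.ι k x)
    rw [lift_incl_ι, counitU_ι]
    exact counit_prim x
  exact DFunLike.congr_fun h u

variable (k H) in
/-- The reduced coproduct of the enveloping algebra. -/
def redU : 𝕌 →ₗ[k] 𝕌 ⊗[k] 𝕌 :=
  (comulU k L₀).toLinearMap - (TensorProduct.mk k 𝕌 𝕌).flip 1 - TensorProduct.mk k 𝕌 𝕌 1 +
    (counitU k L₀).toLinearMap.smulRight ((1 : 𝕌) ⊗ₜ[k] (1 : 𝕌))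

lemma redComul_lift (u : 𝕌) :
    redComul (k := k) (Φ u) = TensorProduct.map (Φ).toLinearMap (Φ).toLinearMap (redU k H u) := by
  rw [redComul_apply, comul_lift, counit_lift]
  simp [redU, map_sub]

variable {ι : Type w} [LinearOrder ι] (b : Module.Basis ι k (SGA3y.primLie k H))

local notation "𝐁" => dBasis b

lemma repr_one : (𝐁).repr (1 : 𝕌) = Finsupp.single 0 1 := by
  rw [← dmon_zero b, ← dBasis_apply, Module.Basis.repr_self]

lemma counitU_eq_repr (u : 𝕌) : counitU k L₀ u = (𝐁).repr u 0 := by
  have h : (counitU k L₀).toLinearMap = Finsupp.lapply 0 ∘ₗ (𝐁).repr.toLinearMap := by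
    refine (𝐁).ext fun α => ?_
    simp only [AlgHom.toLinearMap_apply, LinearMap.comp_apply, LinearEquiv.coe_coe,
      Finsupp.lapply_apply, Module.Basis.repr_self]
    by_cases hα : α = 0
    · subst hα; simp
    · rw [dBasis_apply, counitU_dmon b hα, Finsupp.single_eq_of_ne' hα]
  exact LinearMap.congr_fun h u

lemma coef_redU (β γ : ι →₀ ℕ) (u : 𝕌) :
    ((𝐁).tensorProduct (𝐁)).repr (redU k H u) (β, γ) =
      if β ≠ 0 ∧ γ ≠ 0 then (𝐁).repr u (β + γ) else 0 := by
  have e : ∀ x y : 𝕌, ((𝐁).tensorProduct (𝐁)).repr (x ⊗ₜ[k] y) (β, γ) =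
      (𝐁).repr x β * (𝐁).repr y γ := by
    intro x y; simp [mul_comm]
  simp only [redU, LinearMap.add_apply, LinearMap.sub_apply, AlgHom.toLinearMap_apply,
    LinearMap.flip_apply, TensorProduct.mk_apply, LinearMap.smulRight_apply, map_add, map_sub,
    map_smul, Finsupp.add_apply, Finsupp.sub_apply, Finsupp.smul_apply, coef_comulU, e, repr_one,
    counitU_eq_repr b, smul_eq_mul]
  by_cases hβ : β = 0 <;> by_cases hγ : γ = 0 <;>
    simp [hβ, hγ, Finsupp.single_apply, eq_comm (a := (0 : ι →₀ ℕ))]

lemma dmon_single (i : ι) : dmon b (Finsupp.single i 1) = UniversalEnvelopingAlgebra.ι k (b i) := by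
  have h := ι_mul_dmon b (0 : ι →₀ ℕ) i (by simp)
  simpa using h.symm

lemma exists_linear (u : 𝕌) (hu : ∀ α : ι →₀ ℕ, 1 < α.degree → (𝐁).repr u α = 0) :
    ∃ x : L₀, u = (𝐁).repr u 0 • (1 : 𝕌) + UniversalEnvelopingAlgebra.ι k x := by
  classical
  have hmem : u - (𝐁).repr u 0 • (1 : 𝕌) ∈
      LinearMap.range (UniversalEnvelopingAlgebra.ι k : L₀ →ₗ⁅k⁆ 𝕌).toLinearMap := by
    have hsum := (𝐁).linearCombination_repr (u - (𝐁).repr u 0 • (1 : 𝕌))
    rw [← hsum, Finsupp.linearCombination_apply]
    refine Submodule.sum_mem _ fun α hα => Submodule.smul_mem _ _ ?_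
    rw [Finsupp.mem_support_iff, map_sub, map_smul, repr_one, Finsupp.sub_apply,
      Finsupp.smul_apply, smul_eq_mul] at hα
    have hα0 : α ≠ 0 := by rintro rfl; simp at hα
    have hdeg : α.degree ≤ 1 := by
      by_contra h
      rw [hu α (by omega), Finsupp.single_eq_of_ne hα0] at hα
      simp at hα
    obtain ⟨i, hi⟩ := Finsupp.support_nonempty_iff.2 hα0
    obtain ⟨α', rfl⟩ : ∃ α', α = α' + Finsupp.single i 1 := ⟨α - Finsupp.single i 1,
      (tsub_add_cancel_of_le (Finsupp.single_le_iff.2
        (Nat.one_le_iff_ne_zero.2 (Finsupp.mem_support_iff.1 hi)))).symm⟩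
    rw [map_add, Finsupp.degree_single] at hdeg
    rw [(Finsupp.degree_eq_zero_iff α').1 (by omega), zero_add, dBasis_apply, dmon_single]
    exact ⟨b i, rfl⟩
  obtain ⟨x, hx⟩ := hmem
  exact ⟨x, by rw [show UniversalEnvelopingAlgebra.ι k x = _ from hx]; abel⟩

include b in
lemma lift_injective : Function.Injective (Φ) := by
  classical
  suffices h : ∀ n : ℕ, ∀ u : 𝕌, (∀ α : ι →₀ ℕ, n < α.degree → (𝐁).repr u α = 0) → Φ u = 0 →
      u = 0 by
    refine (injective_iff_map_eq_zero _).2 fun u hu => h (((𝐁).repr u).support.sup Finsupp.degree) u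
      (fun α hα => ?_) hu
    by_contra hne
    exact absurd (Finset.le_sup (f := Finsupp.degree) (Finsupp.mem_support_iff.2 hne)) (not_le.2 hα)
  have base : ∀ u : 𝕌, (∀ α : ι →₀ ℕ, 1 < α.degree → (𝐁).repr u α = 0) → Φ u = 0 → u = 0 := by
    intro u hu hΦ
    obtain ⟨x, hx⟩ := exists_linear b u hu
    have h0 : (𝐁).repr u 0 = 0 := by
      rw [← counitU_eq_repr b, ← counit_lift, hΦ, map_zero]
    rw [h0, zero_smul, zero_add] at hx
    rw [hx, lift_incl_ι] at hΦ
    rw [hx, show x = 0 from Subtype.ext hΦ, map_zero]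
  intro n
  induction n with
  | zero => exact fun u hu => base u fun α hα => hu α (by omega)
  | succ n ih =>
    intro u hu hΦ
    refine base u (fun α hα => ?_) hΦ
    let F : Submodule k 𝕌 :=
      { carrier := {v | ∀ α : ι →₀ ℕ, n < α.degree → (𝐁).repr v α = 0}
        add_mem' := fun {v w} hv hw α hα => by rw [map_add, Finsupp.add_apply, hv α hα, hw α hα, add_zero]
        zero_mem' := fun α _ => by simp
        smul_mem' := fun c v hv α hα => by rw [map_smul, Finsupp.smul_apply, hv α hα, smul_zero] }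
    have hinjF : Function.Injective ((Φ).toLinearMap ∘ₗ F.subtype) :=
      (injective_iff_map_eq_zero _).2 fun v hv => Subtype.ext (ih v.1 v.2 hv)
    obtain ⟨π, hπ⟩ := LinearMap.exists_leftInverse_of_injective _ (LinearMap.ker_eq_bot.2 hinjF)
    have hmem : redU k H u ∈ LinearMap.range (TensorProduct.map F.subtype F.subtype) := by
      have hsum := ((𝐁).tensorProduct (𝐁)).linearCombination_repr (redU k H u)
      rw [← hsum, Finsupp.linearCombination_apply]
      refine Submodule.sum_mem _ fun p hp => Submodule.smul_mem _ _ ?_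
      rw [Finsupp.mem_support_iff, ← Prod.mk.eta (p := p), coef_redU] at hp
      have hp' : (p.1 ≠ 0 ∧ p.2 ≠ 0) ∧ (𝐁).repr u (p.1 + p.2) ≠ 0 := by
        by_cases h : p.1 ≠ 0 ∧ p.2 ≠ 0
        · exact ⟨h, by rwa [if_pos h] at hp⟩
        · rw [if_neg h] at hp; exact absurd rfl hp
      have hle : p.1.degree + p.2.degree ≤ n + 1 := by
        by_contra h
        exact hp'.2 (hu _ (by rw [map_add]; omega))
      have h1 : 0 < p.1.degree := Nat.pos_of_ne_zero fun h => hp'.1.1 ((Finsupp.degree_eq_zero_iff _).1 h)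
      have h2 : 0 < p.2.degree := Nat.pos_of_ne_zero fun h => hp'.1.2 ((Finsupp.degree_eq_zero_iff _).1 h)
      have hF : ∀ β : ι →₀ ℕ, β.degree ≤ n → (𝐁) β ∈ F := fun β hβ α hα => by
        rw [Module.Basis.repr_self, Finsupp.single_eq_of_ne]
        rintro rfl; omega
      exact ⟨⟨_, hF p.1 (by omega)⟩ ⊗ₜ[k] ⟨_, hF p.2 (by omega)⟩, (Module.Basis.tensorProduct_apply _ _ p.1 p.2).symm⟩
    obtain ⟨s, hs⟩ := hmem
    have hs0 : s = 0 := by
      have h1 : TensorProduct.map ((Φ).toLinearMap ∘ₗ F.subtype) ((Φ).toLinearMap ∘ₗ F.subtype) s = 0 := by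
        rw [TensorProduct.map_comp, LinearMap.comp_apply, hs, ← redComul_lift, hΦ, map_zero]
      have h2 := congrArg (TensorProduct.map π π) h1
      rwa [← LinearMap.comp_apply, ← TensorProduct.map_comp, hπ, TensorProduct.map_id,
        LinearMap.id_apply, map_zero] at h2
    obtain ⟨i, hi⟩ := Finsupp.support_nonempty_iff.2 (show α ≠ 0 from fun h => by simp [h] at hα)
    have hi' := Finsupp.single_le_iff.2 (Nat.one_le_iff_ne_zero.2 (Finsupp.mem_support_iff.1 hi))
    have hne : α - Finsupp.single i 1 ≠ 0 := by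
      intro h
      rw [← tsub_add_cancel_of_le hi', h, zero_add, Finsupp.degree_single] at hα
      omega
    have := coef_redU b (Finsupp.single i 1) (α - Finsupp.single i 1) u
    rw [← hs, hs0, map_zero, map_zero, Finsupp.zero_apply,
      if_pos ⟨by simp, hne⟩, add_tsub_cancel_of_le hi'] at this
    exact this.symm

include b in
lemma lift_surjective [Coalgebra.IsCocomm k H] (hconn : SGA3y.IsConnectedCoalg k H) :
    Function.Surjective (Φ) := by
  classical
  obtain ⟨π, hπ⟩ := LinearMap.exists_leftInverse_of_injective (Φ).toLinearMap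
    (LinearMap.ker_eq_bot.2 (lift_injective b))
  have hπ' : ∀ u : 𝕌, π (Φ u) = u := fun u => LinearMap.congr_fun hπ u
  suffices h : ∀ n, corFilt k H n ≤ LinearMap.range (Φ).toLinearMap by
    intro y
    obtain ⟨n, hn⟩ := exists_mem_corFilt hconn y
    exact h n hn
  intro n
  induction n with
  | zero =>
    rw [corFilt, Submodule.span_singleton_le_iff_mem]
    exact ⟨1, map_one (Φ)⟩
  | succ n ih =>
    intro y hy
    set z := redComul (k := k) y with hz
    obtain ⟨t, ht⟩ : ∃ t, TensorProduct.map (Φ).toLinearMap (Φ).toLinearMap t = z := by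
      obtain ⟨s, hs⟩ := redComul_mem hy
      rw [hz, ← hs]
      clear hs
      induction s with
      | zero => exact ⟨0, by simp⟩
      | tmul p q =>
        obtain ⟨p', hp⟩ := ih p.2
        obtain ⟨q', hq⟩ := ih q.2
        exact ⟨p' ⊗ₜ[k] q', by simp only [TensorProduct.map_tmul, Submodule.subtype_apply, hp, hq]⟩
      | add p q hp hq =>
        obtain ⟨p', hp⟩ := hp
        obtain ⟨q', hq⟩ := hq
        exact ⟨p' + q', by rw [map_add, map_add, hp, hq]⟩
    -- functionals dual to the divided monomials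
    let φ : (ι →₀ ℕ) → ComodLib.Dual' k H := fun β => toConv ((𝐁).coord β ∘ₗ π)
    let pair : (H →ₗ[k] k) → (H →ₗ[k] k) → H ⊗[k] H → k := fun p q x =>
      LinearMap.mul' k k (TensorProduct.map p q x)
    have hφ : ∀ β u, (φ β).ofConv (Φ u) = (𝐁).repr u β := by
      intro β u; simp [φ, hπ']
    have hrepr : ∀ β γ (s : 𝕌 ⊗[k] 𝕌), pair (φ β).ofConv (φ γ).ofConv
        (TensorProduct.map (Φ).toLinearMap (Φ).toLinearMap s) =
        ((𝐁).tensorProduct (𝐁)).repr s (β, γ) := by
      intro β γ s
      simp only [pair]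
      induction s with
      | zero => simp
      | tmul p q => simp [hφ, mul_comm]
      | add p q hp hq => simp only [map_add, hp, hq, Finsupp.add_apply]
    let c : (ι →₀ ℕ) → (ι →₀ ℕ) → k := fun β γ => pair (φ β).ofConv (φ γ).ofConv z
    have hc : ∀ β γ, c β γ = ((𝐁).tensorProduct (𝐁)).repr t (β, γ) := fun β γ => by
      rw [← hrepr, ht]
    have hφ1 : ∀ β : ι →₀ ℕ, β ≠ 0 → (φ β).ofConv (1 : H) = 0 := by
      intro β hβ
      rw [← map_one (Φ), hφ, repr_one, Finsupp.single_eq_of_ne hβ]
    have hsym : ∀ β γ, c β γ = c γ β := by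
      intro β γ
      simp only [c]
      conv_lhs => rw [hz, ← comm_redComul, ← hz]
      simp only [pair]
      induction z using TensorProduct.induction_on with
      | zero => simp
      | tmul p q => simp [mul_comm]
      | add p q hp hq => simp only [map_add, hp, hq]
    -- pairing with augmentation functionals is convolution
    have hconv : ∀ p q : ComodLib.Dual' k H, p.ofConv 1 = 0 → q.ofConv 1 = 0 →
        pair p.ofConv q.ofConv z = (p * q).ofConv y := by
      intro p q hp hq
      rw [hz, redComul_apply]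
      simp [pair, hp, hq]
    have hzero : ∀ γ : ι →₀ ℕ, c 0 γ = 0 := by
      intro γ
      rw [hc, ← hrepr]
      have h0 : ∀ s : 𝕌 ⊗[k] 𝕌, pair (φ 0).ofConv (φ γ).ofConv
          (TensorProduct.map (Φ).toLinearMap (Φ).toLinearMap s) =
          (φ γ).ofConv (ComodLib.sliceL (CoalgebraStruct.counit (R := k))
            (TensorProduct.map (Φ).toLinearMap (Φ).toLinearMap s)) := by
        intro s
        simp only [pair]
        induction s with
        | zero => simp
        | tmul p q => simp [hφ, counit_lift, counitU_eq_repr b]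
        | add p q hp hq => simp only [map_add, hp, hq]
      rw [h0, ht, hz, redComul_apply, map_add, map_sub, map_sub, map_smul, ComodLib.sliceL_tmul,
        ComodLib.sliceL_tmul, ComodLib.sliceL_tmul, Bialgebra.counit_one]
      rw [show ComodLib.sliceL (CoalgebraStruct.counit (R := k)) (CoalgebraStruct.comul (R := k) y) = y from
        ComodLib.coeff_counit y]
      simp
    have hcocycle : ∀ β γ δ : ι →₀ ℕ, β ≠ 0 → γ ≠ 0 → δ ≠ 0 → c (β + γ) δ = c β (γ + δ) := by
      intro β γ δ hβ hγ hδ
      have key : ∀ a a' : ι →₀ ℕ, ∀ s : 𝕌,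
          (φ a * φ a').ofConv (Φ s) = (φ (a + a')).ofConv (Φ s) := by
        intro a a' s
        show pair (φ a).ofConv (φ a').ofConv (CoalgebraStruct.comul (R := k) (Φ s)) = _
        rw [comul_lift, hrepr, coef_comulU, hφ]
      have hmul1 : ∀ a a' : ι →₀ ℕ, a ≠ 0 → (φ a * φ a').ofConv (1 : H) = 0 := by
        intro a a' ha
        show pair (φ a).ofConv (φ a').ofConv (CoalgebraStruct.comul (R := k) (1 : H)) = 0
        simp [pair, Algebra.TensorProduct.one_def, hφ1 a ha]
      have hl : c (β + γ) δ = pair (φ β * φ γ).ofConv (φ δ).ofConv z := by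
        simp only [c]
        rw [← ht]
        simp only [pair]
        clear ht hc
        induction t using TensorProduct.induction_on with
        | zero => simp
        | tmul p q => simp [key]
        | add p q hp hq => simp only [map_add, hp, hq]
      have hr : c β (γ + δ) = pair (φ β).ofConv (φ γ * φ δ).ofConv z := by
        simp only [c]
        rw [← ht]
        simp only [pair]
        clear ht hc
        induction t using TensorProduct.induction_on with
        | zero => simp
        | tmul p q => simp [key]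
        | add p q hp hq => simp only [map_add, hp, hq]
      rw [hl, hr, hconv _ _ (hmul1 β γ hβ) (hφ1 δ hδ), hconv _ _ (hφ1 β hβ) (hmul1 γ δ hγ), mul_assoc]
    have hfst : ∀ β γ : ι →₀ ℕ, γ ≠ 0 → ∀ i ∈ β.support,
        c β γ = c (Finsupp.single i 1) (β + γ - Finsupp.single i 1) := by
      intro β γ hγ i hi
      obtain ⟨β', rfl⟩ : ∃ β', β = Finsupp.single i 1 + β' := ⟨β - Finsupp.single i 1,
        (add_tsub_cancel_of_le (Finsupp.single_le_iff.2
          (Nat.one_le_iff_ne_zero.2 (Finsupp.mem_support_iff.1 hi)))).symm⟩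
      rw [add_assoc, add_tsub_cancel_left]
      by_cases hβ' : β' = 0
      · simp [hβ']
      · exact hcocycle _ _ _ (by simp) hβ' hγ
    let f : (ι →₀ ℕ) → k := fun α =>
      if h : α.support.Nonempty then
        c (Finsupp.single (α.support.min' h) 1) (α - Finsupp.single (α.support.min' h) 1)
      else 0
    let T : Finset (ι →₀ ℕ) :=
      (((𝐁).tensorProduct (𝐁)).repr t).support.image fun p => p.1 + p.2
    let u : 𝕌 := ∑ α ∈ T, f α • (𝐁) α
    have hu : ∀ α, (𝐁).repr u α = if α ∈ T then f α else 0 := by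
      intro α
      simp only [u, map_sum, map_smul, Module.Basis.repr_self, Finsupp.coe_finsetSum, Finset.sum_apply,
        Finsupp.smul_apply, Finsupp.single_apply, smul_eq_mul, mul_ite, mul_one, mul_zero,
        Finset.sum_ite_eq']
    have hred : redU k H u = t := by
      refine ((𝐁).tensorProduct (𝐁)).repr.injective (Finsupp.ext fun p => ?_)
      rw [← Prod.mk.eta (p := p), coef_redU, ← hc, hu]
      by_cases h1 : p.1 = 0
      · rw [if_neg (fun h => h.1 h1), h1, hzero]
      by_cases h2 : p.2 = 0
      · rw [if_neg (fun h => h.2 h2), h2, hsym, hzero]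
      rw [if_pos ⟨h1, h2⟩]
      split_ifs with hT
      · have hne : (p.1 + p.2).support.Nonempty := by
          rw [Finsupp.support_nonempty_iff]
          exact fun h => h1 (add_eq_zero.1 h).1
        simp only [f, dif_pos hne]
        have hmem := Finsupp.support_add (Finset.min'_mem _ hne)
        rcases Finset.mem_union.1 hmem with hj | hj
        · exact (hfst p.1 p.2 h2 _ hj).symm
        · rw [hsym p.1 p.2, hfst p.2 p.1 h1 _ hj, add_comm p.2 p.1]
      · by_contra hne
        refine hT (Finset.mem_image.2 ⟨p, ?_, rfl⟩)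
        rw [Finsupp.mem_support_iff, ← Prod.mk.eta (p := p), ← hc]
        exact fun h => hne h.symm
    let w : H := y - Φ u
    have hw : redComul (k := k) w = 0 := by
      simp only [w]
      rw [map_sub, redComul_lift, hred, ht, ← hz, sub_self]
    have hprim : w - CoalgebraStruct.counit (R := k) w • (1 : H) ∈ SGA3y.primLie k H := by
      show CoalgebraStruct.comul (R := k) _ = _
      rw [redComul_apply] at hw
      rw [map_sub, map_smul, Bialgebra.comul_one, Algebra.TensorProduct.one_def, sub_tmul, tmul_sub,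
        ← smul_tmul', tmul_smul]
      linear_combination (norm := module) hw
    refine ⟨u + CoalgebraStruct.counit (R := k) w • (1 : 𝕌) +
      UniversalEnvelopingAlgebra.ι k ⟨_, hprim⟩, ?_⟩
    rw [AlgHom.toLinearMap_apply, map_add, map_add, map_smul, map_one, lift_incl_ι]
    simp only [w]
    abel

end PBWLib

end
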