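import Groth.Agent.PBWLib.Basis
import Mathlib.RingTheory.TensorProduct.Maps
import Mathlib.Data.Finsupp.Antidiagonal
import Mathlib.Data.Finsupp.Multiset
import Mathlib.Data.Finsupp.Weight
import Mathlib.Algebra.CharP.Basic
import Mathlib.LinearAlgebra.TensorProduct.Basis

/-! The enveloping algebra as a coalgebra in characteristic zero: divided monomials. -/

noncomputable section

open TensorProduct

namespace PBWLib

universe u v w

variable {k : Type u} [Field k] [CharZero k] {L : Type v} [LieRing L] [LieAlgebra k L]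
  {ι : Type w} [LinearOrder ι] (b : Module.Basis ι k L)

attribute [local instance 100] LieRing.ofAssociativeRing

local notation "𝕌" => UniversalEnvelopingAlgebra k L
local notation "ε" => UniversalEnvelopingAlgebra.ι k

variable (k L) in
/-- Generators are primitive. -/
def primHom : L →ₗ⁅k⁆ 𝕌 ⊗[k] 𝕌 where
  toFun x := ε x ⊗ₜ[k] (1 : 𝕌) + (1 : 𝕌) ⊗ₜ[k] ε x
  map_add' x y := by rw [map_add, add_tmul, tmul_add]; abel
  map_smul' c x := by rw [map_smul, RingHom.id_apply, smul_add, ← smul_tmul', tmul_smul]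
  map_lie' {x y} := by
    rw [LieHom.map_lie, LieRing.of_associative_ring_bracket, LieRing.of_associative_ring_bracket]
    simp only [add_mul, mul_add, Algebra.TensorProduct.tmul_mul_tmul, one_mul, mul_one, sub_tmul,
      tmul_sub]
    abel

variable (k L) in
/-- The comultiplication of the enveloping algebra. -/
def comulU : 𝕌 →ₐ[k] 𝕌 ⊗[k] 𝕌 := UniversalEnvelopingAlgebra.lift k (primHom k L)

lemma comulU_ι (x : L) : comulU k L (ε x) = ε x ⊗ₜ[k] (1 : 𝕌) + (1 : 𝕌) ⊗ₜ[k] ε x :=
  UniversalEnvelopingAlgebra.lift_ι_apply k (primHom k L) x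

variable (k L) in
/-- The counit of the enveloping algebra. -/
def counitU : 𝕌 →ₐ[k] k := UniversalEnvelopingAlgebra.lift k (0 : L →ₗ⁅k⁆ k)

@[simp] lemma counitU_ι (x : L) : counitU k L (ε x) = 0 :=
  UniversalEnvelopingAlgebra.lift_ι_apply k (0 : L →ₗ⁅k⁆ k) x

/-- The product of the factorials of an exponent. -/
def fact' (α : ι →₀ ℕ) : k := α.prod fun _ n => (n.factorial : k)

omit [LinearOrder ι] in
lemma fact'_ne_zero (α : ι →₀ ℕ) : (fact' α : k) ≠ 0 :=
  Finset.prod_ne_zero_iff.2 fun _ _ => Nat.cast_ne_zero.2 (Nat.factorial_ne_zero _)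

/-- The divided monomial. -/
def dmon (α : ι →₀ ℕ) : 𝕌 := (fact' α : k)⁻¹ • word b (Finsupp.toMultiset α)

/-- The basis of divided monomials. -/
def dBasis : Module.Basis (ι →₀ ℕ) k 𝕌 :=
  ((pbwBasis b).reindex Multiset.toFinsupp.toEquiv).unitsSMul
    fun α => Units.mk0 (fact' α : k)⁻¹ (inv_ne_zero (fact'_ne_zero α))

@[simp] lemma dBasis_apply (α : ι →₀ ℕ) : dBasis b α = dmon b α := by
  simp [dBasis, dmon, Module.Basis.unitsSMul_apply]

@[simp] lemma dmon_zero : dmon b (0 : ι →₀ ℕ) = 1 := by simp [dmon, fact', word_zero]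

omit [LinearOrder ι] [CharZero k] in
lemma fact'_add_single (α : ι →₀ ℕ) (l : ι) :
    (fact' (α + Finsupp.single l 1) : k) = ((α l + 1 : ℕ) : k) * fact' α := by
  classical
  have h : ∀ β : ι →₀ ℕ, (fact' β : k) =
      ((β l).factorial : k) * (β.erase l).prod fun _ n => (n.factorial : k) := by
    intro β
    exact (Finsupp.mul_prod_erase' β l (fun _ n => (n.factorial : k)) (by simp)).symm
  rw [h, h α, Finsupp.erase_add, Finsupp.erase_single, add_zero, Finsupp.add_apply,
    Finsupp.single_eq_same, Nat.factorial_succ, Nat.cast_mul, mul_assoc]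

lemma ι_mul_dmon (α : ι →₀ ℕ) (l : ι) (h : ∀ x ∈ α.support, l ≤ x) :
    ε (b l) * dmon b α = ((α l + 1 : ℕ) : k) • dmon b (α + Finsupp.single l 1) := by
  have hs : Finsupp.toMultiset (α + Finsupp.single l 1) = l ::ₘ Finsupp.toMultiset α := by
    rw [map_add, Finsupp.toMultiset_single, one_nsmul, add_comm, Multiset.singleton_add]
  rw [dmon, dmon, hs, word_cons b (fun x hx => h x ((Finsupp.mem_toMultiset α x).1 hx)),
    mul_smul_comm, smul_smul, fact'_add_single, mul_inv, ← mul_assoc,
    mul_inv_cancel₀ (Nat.cast_ne_zero.2 (Nat.succ_ne_zero _)), one_mul]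

omit [CharZero k] in
lemma exists_min_decomp {α : ι →₀ ℕ} (hα : α ≠ 0) :
    ∃ (l : ι) (α' : ι →₀ ℕ), α = α' + Finsupp.single l 1 ∧ ∀ x ∈ α.support, l ≤ x := by
  classical
  have hne : α.support.Nonempty := Finsupp.support_nonempty_iff.2 hα
  refine ⟨α.support.min' hne, α - Finsupp.single (α.support.min' hne) 1, ?_,
    fun x hx => Finset.min'_le _ _ hx⟩
  refine (tsub_add_cancel_of_le (Finsupp.single_le_iff.2 ?_)).symm
  exact Nat.one_le_iff_ne_zero.2 (Finsupp.mem_support_iff.1 (Finset.min'_mem _ hne))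

omit [CharZero k] in
lemma sum_shift {V : Type*} [AddCommGroup V] [Module k V] (α : ι →₀ ℕ) (l : ι)
    (F : (ι →₀ ℕ) × (ι →₀ ℕ) → V) :
    ∑ p ∈ (Finset.antidiagonal α : Finset ((ι →₀ ℕ) × (ι →₀ ℕ))),
        ((p.1 l + 1 : ℕ) : k) • F (p.1 + Finsupp.single l 1, p.2) =
      ∑ p ∈ (Finset.antidiagonal (α + Finsupp.single l 1) : Finset ((ι →₀ ℕ) × (ι →₀ ℕ))),
        ((p.1 l : ℕ) : k) • F p := by
  classical
  refine Finset.sum_of_injOn (fun p : (ι →₀ ℕ) × (ι →₀ ℕ) => (p.1 + Finsupp.single l 1, p.2))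
    ?_ ?_ ?_ ?_
  · intro p _ q _ hpq
    simp only [Prod.mk.injEq, add_left_inj] at hpq
    exact Prod.ext hpq.1 hpq.2
  · intro p hp
    simp only [Finset.mem_coe, Finset.HasAntidiagonal.mem_antidiagonal] at hp ⊢
    rw [add_right_comm, hp]
  · intro p hp hnot
    by_cases h0 : p.1 l = 0
    · rw [h0, Nat.cast_zero, zero_smul]
    · exfalso
      refine hnot ⟨(p.1 - Finsupp.single l 1, p.2), ?_, ?_⟩
      · simp only [Finset.mem_coe, Finset.HasAntidiagonal.mem_antidiagonal] at hp ⊢
        have e := tsub_add_cancel_of_le (Finsupp.single_le_iff.2 (Nat.one_le_iff_ne_zero.2 h0) :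
          Finsupp.single l 1 ≤ p.1)
        refine add_right_cancel (b := Finsupp.single l 1) ?_
        rw [add_right_comm, e, hp]
      · exact Prod.ext (tsub_add_cancel_of_le
          (Finsupp.single_le_iff.2 (Nat.one_le_iff_ne_zero.2 h0))) rfl
  · intro p _
    simp [Finsupp.add_apply]

/-- The coproduct of a divided monomial. -/
lemma comulU_dmon (n : ℕ) : ∀ α : ι →₀ ℕ, α.degree = n → comulU k L (dmon b α) =
    ∑ p ∈ Finset.antidiagonal α, dmon b p.1 ⊗ₜ[k] dmon b p.2 := by
  classical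
  induction n with
  | zero =>
    intro α hα
    rw [Finsupp.degree_eq_zero_iff] at hα
    subst hα
    simp [Algebra.TensorProduct.one_def]
  | succ n ih =>
    intro α hα
    have hne : α ≠ 0 := fun h => by simp [h] at hα
    obtain ⟨l, α', rfl, hmin⟩ := exists_min_decomp hne
    have hdeg : α'.degree = n := by
      rw [map_add, Finsupp.degree_single] at hα
      omega
    have hmin' : ∀ x ∈ α'.support, l ≤ x := fun x hx => hmin x (by
      rw [Finsupp.mem_support_iff] at hx ⊢
      rw [Finsupp.add_apply]; omega)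
    have hsupp : ∀ p ∈ Finset.antidiagonal α',
        (∀ x ∈ p.1.support, l ≤ x) ∧ (∀ x ∈ p.2.support, l ≤ x) := by
      intro p hp
      rw [Finset.HasAntidiagonal.mem_antidiagonal] at hp
      constructor <;> intro x hx <;> refine hmin' x ?_ <;>
        · rw [← hp, Finsupp.mem_support_iff, Finsupp.add_apply]
          rw [Finsupp.mem_support_iff] at hx
          omega
    apply smul_right_injective (R := k) _ (Nat.cast_ne_zero.2 (Nat.succ_ne_zero (α' l)) :
      ((α' l + 1 : ℕ) : k) ≠ 0)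
    beta_reduce
    rw [← map_smul, ← ι_mul_dmon b α' l hmin', map_mul, comulU_ι, ih α' hdeg, Finset.mul_sum]
    calc ∑ p ∈ Finset.antidiagonal α',
          (ε (b l) ⊗ₜ[k] (1 : 𝕌) + (1 : 𝕌) ⊗ₜ[k] ε (b l)) * dmon b p.1 ⊗ₜ[k] dmon b p.2
        = ∑ p ∈ Finset.antidiagonal α',
            (((p.1 l + 1 : ℕ) : k) • dmon b (p.1 + Finsupp.single l 1) ⊗ₜ[k] dmon b p.2 +
              ((p.2 l + 1 : ℕ) : k) • dmon b p.1 ⊗ₜ[k] dmon b (p.2 + Finsupp.single l 1)) := by
          refine Finset.sum_congr rfl fun p hp => ?_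
          rw [add_mul, Algebra.TensorProduct.tmul_mul_tmul, Algebra.TensorProduct.tmul_mul_tmul,
            one_mul, one_mul, ι_mul_dmon b p.1 l (hsupp p hp).1, ι_mul_dmon b p.2 l (hsupp p hp).2,
            tmul_smul, ← smul_tmul']
      _ = _ := by
          rw [Finset.sum_add_distrib, Finset.smul_sum,
            sum_shift α' l (fun q => dmon b q.1 ⊗ₜ[k] dmon b q.2)]
          have h2 : ∑ p ∈ (Finset.antidiagonal α' : Finset ((ι →₀ ℕ) × (ι →₀ ℕ))),
              ((p.2 l + 1 : ℕ) : k) • dmon b p.1 ⊗ₜ[k] dmon b (p.2 + Finsupp.single l 1) =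
              ∑ p ∈ (Finset.antidiagonal (α' + Finsupp.single l 1) : Finset ((ι →₀ ℕ) × (ι →₀ ℕ))),
                ((p.2 l : ℕ) : k) • dmon b p.1 ⊗ₜ[k] dmon b p.2 := by
            exact (Finsupp.sum_antidiagonal_swap α' fun q r =>
              ((r l + 1 : ℕ) : k) • dmon b q ⊗ₜ[k] dmon b (r + Finsupp.single l 1)).trans
              ((sum_shift α' l fun q => dmon b q.2 ⊗ₜ[k] dmon b q.1).trans
                (Finsupp.sum_antidiagonal_swap (α' + Finsupp.single l 1) fun q r =>
                  ((r l : ℕ) : k) • dmon b q ⊗ₜ[k] dmon b r).symm)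
          rw [h2, ← Finset.sum_add_distrib]
          refine Finset.sum_congr rfl fun p hp => ?_
          rw [← add_smul, ← Nat.cast_add]
          congr 2
          rw [Finset.HasAntidiagonal.mem_antidiagonal] at hp
          rw [← Finsupp.add_apply, hp, Finsupp.add_apply, Finsupp.single_eq_same]

lemma counitU_dmon {α : ι →₀ ℕ} (hα : α ≠ 0) : counitU k L (dmon b α) = 0 := by
  obtain ⟨l, α', rfl, hmin⟩ := exists_min_decomp hα
  have h := congrArg (counitU k L) (ι_mul_dmon b α' l fun x hx => hmin x (by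
    rw [Finsupp.mem_support_iff] at hx ⊢
    rw [Finsupp.add_apply]; omega))
  rw [map_mul, counitU_ι, zero_mul, map_smul, smul_eq_mul, eq_comm, mul_eq_zero] at h
  exact h.resolve_left (Nat.cast_ne_zero.2 (Nat.succ_ne_zero _))

/-- The coefficient of the coproduct at a pair of exponents. -/
lemma coef_comulU (β γ : ι →₀ ℕ) (u : 𝕌) :
    ((dBasis b).tensorProduct (dBasis b)).repr (comulU k L u) (β, γ) =
      (dBasis b).repr u (β + γ) := by
  classical
  have h : ((Finsupp.lapply (β, γ)) ∘ₗ ((dBasis b).tensorProduct (dBasis b)).repr.toLinearMap) ∘ₗ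
      (comulU k L).toLinearMap = (Finsupp.lapply (β + γ)) ∘ₗ (dBasis b).repr.toLinearMap := by
    refine (dBasis b).ext fun α => ?_
    simp only [LinearMap.comp_apply, AlgHom.toLinearMap_apply, LinearEquiv.coe_coe,
      Finsupp.lapply_apply, Module.Basis.repr_self]
    rw [dBasis_apply, comulU_dmon b _ α rfl, map_sum, Finsupp.coe_finsetSum, Finset.sum_apply]
    rw [Finset.sum_congr rfl (g := fun p => if p = (β, γ) then (1 : k) else 0) fun p _ => ?_,
      Finset.sum_ite_eq', Finsupp.single_apply]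
    · simp only [Finset.HasAntidiagonal.mem_antidiagonal, eq_comm (a := α)]
    · rw [← dBasis_apply, ← dBasis_apply, ← Module.Basis.tensorProduct_apply, Module.Basis.repr_self,
        Finsupp.single_apply]
  exact LinearMap.congr_fun h u

end PBWLib
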